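import Groth.Agent.EtShLib.StrictLocal
import Groth.Agent.CohTopLib.Profinite
import Groth.Agent.FppfLib.Local
import Groth.Agent.HenselLib.Perm
import Groth.Agent.HenselLib.Local
import Groth.Agent.EtFppfLib.SmoothMain
import Groth.Agent.ExtGmLib.Basic
import Groth.Agent.S9633

/-!
# Étale cohomology of rings of dimension zero with separably closed residue fields
-/

set_option autoImplicit false
set_option linter.style.haveILetI false
set_option backward.isDefEq.respectTransparency false
set_option backward.isDefEq.respectTransparency.types false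
set_option maxHeartbeats 1000000
universe u

open CategoryTheory CategoryTheory.Limits AlgebraicGeometry Opposite TopologicalSpace Groth.Agent.EtShLib
open scoped MonObj

noncomputable section

namespace EtProfLib

variable (A : Type u) [CommRing A] [Ring.KrullDimLE 0 A]

/-- the local rings are henselian -/
theorem henselianLocalRing_atPrime (q : Ideal A) [q.IsPrime] : HenselianLocalRing (Localization.AtPrime q) := by
  haveI : q.IsMaximal := Ideal.isMaximal_of_isPrime q
  have hnil : ∀ x ∈ IsLocalRing.maximalIdeal (Localization.AtPrime q), IsNilpotent x := by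
    intro x hx
    rw [nilpotent_iff_mem_prime]
    intro J hJ
    haveI := hJ
    haveI : Ring.KrullDimLE 0 (Localization.AtPrime q) := Ring.KrullDimLE.mk₀ fun P hP => by
      rw [← IsLocalization.map_comap q.primeCompl (Localization.AtPrime q) P]
      have h1 : P.comap (algebraMap A (Localization.AtPrime q)) = q := by
        haveI : (P.comap (algebraMap A (Localization.AtPrime q))).IsPrime := Ideal.IsPrime.comap _
        refine (Ideal.isMaximal_of_isPrime _).eq_of_le ‹q.IsMaximal›.ne_top fun a ha => ?_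
        by_contra haq
        exact hP.ne_top (Ideal.eq_top_of_isUnit_mem _ ha (IsLocalization.map_units _ (⟨a, haq⟩ : q.primeCompl)))
      rw [show P.under A = q from h1, IsLocalization.AtPrime.map_eq_maximalIdeal q (Localization.AtPrime q)]
      exact IsLocalRing.maximalIdeal.isMaximal _
    rw [IsLocalRing.eq_maximalIdeal (Ideal.isMaximal_of_isPrime J)]
    exact hx
  haveI := HenselLib.henselianRing_of_forall_isNilpotent hnil
  exact HenselLib.henselianLocalRing_of_henselianRing

variable (hA : ∀ (q : Ideal A) [q.IsPrime], IsSepClosed (IsLocalRing.ResidueField (Localization.AtPrime q)))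

local notation "SA" => Spec (CommRingCat.of A)

include hA in
/-- local lifts of sections along an epimorphism -/
theorem exists_local_lift {F G : EtCoh.Ab SA} (α : F ⟶ G) [Epi α] (y : G.obj.obj (op (EtCoh.top SA))) (x : PrimeSpectrum A) :
    ∃ (D : Opens (PrimeSpectrum A)) (_ : x ∈ D) (W : (SA).Etale) (_ : IsOpenImmersion W.hom)
      (s : F.obj.obj (op W)) (g : W ⟶ EtCoh.top SA),
      (D : Set (PrimeSpectrum A)) ⊆ Set.range W.hom ∧ α.hom.app (op W) s = G.obj.map g.op y := by
  classical
  let q := x.asIdeal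
  let Aq := Localization.AtPrime q
  haveI := henselianLocalRing_atPrime A q
  haveI := hA q
  let loc : Spec (CommRingCat.of Aq) ⟶ SA := Spec.map (CommRingCat.ofHom (algebraMap A Aq))
  let ξ : Spec (CommRingCat.of (IsLocalRing.ResidueField Aq)) ⟶ SA :=
    Spec.map (CommRingCat.ofHom (IsLocalRing.residue Aq)) ≫ loc
  let u₀ : Fib ξ (EtCoh.top SA) := Fib.mk ξ (Category.comp_id _)
  haveI : Epi ((stk (A := AddCommGrpCat.{u + 1}) ξ).map α) := (epi_iff_stalks α).1 inferInstance _ ξ
  obtain ⟨p, hp⟩ := (AddCommGrpCat.epi_iff_surjective _).1 ‹_› (germ (A := AddCommGrpCat.{u + 1}) ξ G _ u₀ y)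
  obtain ⟨V, g, v, s, hv, rfl⟩ := exists_germ_below (A := AddCommGrpCat.{u + 1}) ξ p (EtCoh.top SA) u₀
  rw [germ_natural_apply, ← hv, ← germ_res_apply] at hp
  obtain ⟨V', g', v', -, he⟩ := (germ_eq_iff ξ V v _ _).1 hp
  -- a section near the point
  haveI : Etale V'.hom := V'.prop
  let w : Spec (CommRingCat.of (IsLocalRing.ResidueField Aq)) ⟶ pullback V'.hom loc :=
    pullback.lift v'.hom (Spec.map (CommRingCat.ofHom (IsLocalRing.residue Aq))) v'.w
  obtain ⟨σ, hσ, -⟩ := SubmDescLib.exists_hensel_section (IsLocalRing.residue Aq) IsLocalRing.residue_surjective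
    (pullback.snd V'.hom loc) w (pullback.lift_snd _ _ _)
  let σ' : Spec (CommRingCat.of Aq) ⟶ V'.left := σ ≫ pullback.fst V'.hom loc
  have hσ' : σ' ≫ V'.hom = loc := by
    rw [Category.assoc, pullback.condition, reassoc_of% hσ]
  obtain ⟨U, hU, hzU, -⟩ := exists_isAffineOpen_mem_and_subset (X := V'.left)
    (x := σ' (IsLocalRing.closedPoint Aq)) (U := ⊤) trivial
  have hrange : Set.range σ' ⊆ Set.range U.ι := by
    rintro _ ⟨t, rfl⟩
    rw [Scheme.Opens.range_ι]
    exact ((IsLocalRing.specializes_closedPoint t).map σ'.continuous).mem_open U.2 hzU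
  let C := Γ(V'.left, U)
  let φ : CommRingCat.of A ⟶ C := Spec.preimage (hU.fromSpec ≫ V'.hom)
  letI : Algebra A C := φ.hom.toAlgebra
  haveI : Etale (Spec.map φ) := by
    rw [Spec.map_preimage]
    infer_instance
  haveI : Algebra.Etale A C := RingHom.etale_algebraMap.1 ((HasRingHomProperty.Spec_iff (P := @Etale)).1 ‹_›)
  haveI : Algebra.FinitePresentation A C := inferInstance
  let τ₀ : C ⟶ CommRingCat.of Aq := Spec.preimage (IsOpenImmersion.lift U.ι σ' hrange ≫ hU.isoSpec.hom)
  have hτ₀ : φ ≫ τ₀ = CommRingCat.ofHom (algebraMap A Aq) := by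
    apply Spec.map_injective
    rw [Spec.map_comp, Spec.map_preimage, Spec.map_preimage, Category.assoc, hU.isoSpec_hom_fromSpec_assoc,
      IsOpenImmersion.lift_fac_assoc, hσ']
  let τ : C →ₐ[A] Aq := { τ₀.hom with commutes' := fun a => congrArg (fun k : CommRingCat.of A ⟶ CommRingCat.of Aq => k a) hτ₀ }
  obtain ⟨t, ht, ⟨τt⟩⟩ := FppfLib.exists_lift_away q τ
  let jt : Spec (CommRingCat.of (Localization.Away t)) ⟶ SA :=
    Spec.map (CommRingCat.ofHom (algebraMap A (Localization.Away t)))
  haveI : IsOpenImmersion jt := IsOpenImmersion.of_isLocalization t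
  let st : Spec (CommRingCat.of (Localization.Away t)) ⟶ V'.left :=
    Spec.map (CommRingCat.ofHom τt.toRingHom) ≫ hU.fromSpec
  have hst : st ≫ V'.hom = jt := by
    rw [Category.assoc, ← Spec.map_preimage (hU.fromSpec ≫ V'.hom), ← Spec.map_comp]
    congr 1
    ext a
    exact τt.commutes a
  let W : (SA).Etale := MorphismProperty.Over.mk _ jt (inferInstance : Etale jt)
  let k : W ⟶ V' := MorphismProperty.Over.homMk st hst
  refine ⟨PrimeSpectrum.basicOpen t, (PrimeSpectrum.mem_basicOpen _ _).2 ht, W, ‹_›, F.obj.map (g'.op ≫ k.op) s, k ≫ g' ≫ g, ?_, ?_⟩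
  · show _ ⊆ Set.range (PrimeSpectrum.comap (algebraMap A (Localization.Away t)))
    rw [PrimeSpectrum.localization_away_comap_range (Localization.Away t) t]
  · rw [NatTrans.naturality_apply]
    simp only [op_comp, Functor.map_comp, ConcreteCategory.comp_apply]
    exact congrArg (G.obj.map k.op) he

/-- sections on an empty object agree -/
theorem eq_of_isEmpty (F : EtCoh.Ab SA) {U : (SA).Etale} (hU : IsEmpty U.left) (a b : F.obj.obj (op U)) : a = b :=
  res_ext F a b fun y => (hU.false y).elim

include hA in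
theorem surjective_sections_of_epi {F G : EtCoh.Ab SA} (α : F ⟶ G) [Epi α] :
    Function.Surjective (α.hom.app (op (EtCoh.top SA))) := fun y => by
  classical
  choose D hxD W hW s g hDW hs using exists_local_lift A hA α y
  have h9 := ((Groth.Agent.S9633.result (R := A)).out 5 0).1 (fun p hp => @Ideal.isMaximal_of_isPrime _ _ _ p hp)
  haveI : T2Space (TopCat.of (PrimeSpectrum A)) := h9.2.1
  haveI : TotallyDisconnectedSpace (TopCat.of (PrimeSpectrum A)) := h9.2.2
  haveI : CompactSpace (TopCat.of (PrimeSpectrum A)) := h9.1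
  obtain ⟨n, P, j, hPD, hcov, hdis⟩ := CohTopLib.exists_partition_refinement
    (X := TopCat.of (PrimeSpectrum A)) D fun x => ⟨x, hxD x⟩
  let P' : Fin n → (SA).Opens := P
  haveI := fun k => hW (j k)
  have hr : ∀ k, Set.range (P' k).ι ⊆ Set.range (W (j k)).hom := fun k => by
    rw [Scheme.Opens.range_ι]
    exact Set.Subset.trans (SetLike.coe_subset_coe.2 (hPD k)) (hDW (j k))
  let Wp : ∀ k, (SA).Etale := fun k => MorphismProperty.Over.mk _ (P' k).ι (inferInstance : Etale (P' k).ι)
  let m : ∀ k, Wp k ⟶ W (j k) := fun k =>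
    MorphismProperty.Over.homMk (IsOpenImmersion.lift (W (j k)).hom (P' k).ι (hr k)) (IsOpenImmersion.lift_fac _ _ _)
  let π : ∀ k, Wp k ⟶ EtCoh.top SA := fun k => m k ≫ g (j k)
  have hπ : ∀ k, (π k).left = (P' k).ι := fun k => by
    have h := MorphismProperty.Over.w (π k)
    exact (Category.comp_id _).symm.trans h
  have hmem : Sieve.ofArrows Wp π ∈ (SA).smallEtaleTopology (EtCoh.top SA) := by
    rw [Scheme.ofArrows_mem_smallEtaleTopology_iff]
    refine Set.eq_univ_of_forall fun z => ?_
    obtain ⟨k, hk⟩ := hcov z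
    refine Set.mem_iUnion.2 ⟨k, ?_⟩
    rw [show ((π k).left : _ → _) = _ from congrArg (fun f : (Wp k).left ⟶ SA => (f : _ → _)) (hπ k)]
    exact ⟨⟨z, hk⟩, rfl⟩
  have hsh : ∀ (H : EtCoh.Ab SA), (Presieve.ofArrows Wp π).IsSheafFor (H.obj ⋙ forget AddCommGrpCat) := fun H => by
    rw [Presieve.isSheafFor_iff_generate]
    exact ((isSheaf_iff_isSheaf_of_type _ _).1 (GrothendieckTopology.HasSheafCompose.isSheaf H.obj H.property)) _ hmem
  let xs : ∀ k, F.obj.obj (op (Wp k)) := fun k => F.obj.map (m k).op (s (j k))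
  have hcomp : Presieve.Arrows.Compatible (F.obj ⋙ forget AddCommGrpCat) π xs := by
    intro k l Z gk gl e
    by_cases hkl : k = l
    · subst hkl
      have e' : gk = gl := by
        apply MorphismProperty.Over.Hom.ext
        have h1 : gk.left ≫ (P' k).ι = gl.left ≫ (P' k).ι := by
          have := congrArg (fun f : Z ⟶ EtCoh.top SA => f.left) e
          change gk.left ≫ (π k).left = gl.left ≫ (π k).left at this
          rwa [hπ] at this
        exact (cancel_mono (P' k).ι).1 h1
      rw [e']
    · refine eq_of_isEmpty A F ⟨fun z => ?_⟩ _ _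
      have h1 : gk.left ≫ (P' k).ι = gl.left ≫ (P' l).ι := by
        have := congrArg (fun f : Z ⟶ EtCoh.top SA => f.left) e
        change gk.left ≫ (π k).left = gl.left ≫ (π l).left at this
        rwa [hπ, hπ] at this
      have hk : (P' k).ι (gk.left z) ∈ P' k := (gk.left z).2
      have hl : (P' k).ι (gk.left z) ∈ P' l := by
        have h2 : (gk.left ≫ (P' k).ι) z = (gl.left ≫ (P' l).ι) z := congrArg (fun f : Z.left ⟶ SA => f z) h1
        exact h2.symm ▸ (gl.left z).2
      have := hdis k l hkl
      have h3 : (P' k).ι (gk.left z) ∈ P k ⊓ P l := ⟨hk, hl⟩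
      rw [this] at h3
      exact h3
  obtain ⟨a, ha, -⟩ := (Presieve.isSheafFor_arrows_iff _ _).1 (hsh F) xs hcomp
  refine ⟨a, (hsh G).isSeparatedFor.ext fun Z f hf => ?_⟩
  obtain ⟨k⟩ := hf
  show G.obj.map (π k).op (α.hom.app _ a) = G.obj.map (π k).op y
  rw [← NatTrans.naturality_apply, show F.obj.map (π k).op a = xs k from ha k]
  show α.hom.app _ (F.obj.map (m k).op (s (j k))) = _
  rw [NatTrans.naturality_apply, hs, ← ConcreteCategory.comp_apply, ← Functor.map_comp, ← op_comp]

include hA in
theorem subsingleton_H (F : EtCoh.Ab SA) (p : ℕ) (hp : 1 ≤ p) : Subsingleton (EtCoh.H SA F p) := by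
  have hT : IsTerminal (EtCoh.top SA) := MorphismProperty.Over.mkIdTerminal EtCoh.etaleMP SA
  haveI : Projective ((constantSheaf (SA).smallEtaleTopology AddCommGrpCat.{u + 1}).obj
      (AddCommGrpCat.of (ULift ℤ))) := by
    haveI : Projective (AddCommGrpCat.of (ULift.{u + 1} ℤ)) :=
      ⟨fun {E Y} f e he => by
        obtain ⟨x, hx⟩ := (AddCommGrpCat.epi_iff_surjective e).1 he (f (ULift.up 1))
        refine ⟨AddCommGrpCat.ofHom ((zmultiplesHom _ x).comp AddEquiv.ulift.toAddMonoidHom), ?_⟩
        ext n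
        show e (n.down • x) = f n
        rw [map_zsmul, hx, ← map_zsmul]
        exact congrArg f (ULift.ext _ _ (by simp))⟩
    haveI : ((sheafSections (SA).smallEtaleTopology AddCommGrpCat.{u + 1}).obj
        (op (EtCoh.top SA))).PreservesEpimorphisms :=
      ⟨fun α hα => (AddCommGrpCat.epi_iff_surjective _).2 (surjective_sections_of_epi A hA α)⟩
    exact Adjunction.map_projective (constantSheafAdj _ _ hT) _ inferInstance
  obtain ⟨n, rfl⟩ : ∃ n, p = n + 1 := ⟨p - 1, by omega⟩
  exact subsingleton_of_forall_eq 0 Abelian.Ext.eq_zero_of_projective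

include hA in
theorem subsingleton_HF_of_acy (G : EtFppf.AbF SA) (hG : EtFppfLib.Acy G) (i : ℕ) (hi : 1 ≤ i) :
    Subsingleton (EtFppf.HF SA G i) := by
  obtain ⟨e⟩ := EtFppfLib.nonempty_H_aPush_equiv_HF G hG i
  haveI := subsingleton_H A hA ((EtFppf.aPush SA).obj G) i hi
  exact e.symm.toEquiv.subsingleton

variable {S T : Scheme.{u}} (f : T ⟶ S)

/-- points of a base change -/
def ptsBcEquiv (G : Over S) [GrpObj G] [IsCommMonObj G] [IsCommMonObj (Red.bc f G)] (U : Over T) :
    ULift.{u + 1} (Additive (U ⟶ Red.bc f G)) ≃+ ULift.{u + 1} (Additive ((Over.map f).obj U ⟶ G)) where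
  toFun a := ULift.up (Additive.ofMul ((ExtGm.pts f G U).symm a.down.toMul))
  invFun a := ULift.up (Additive.ofMul ((ExtGm.pts f G U) a.down.toMul))
  left_inv a := ULift.ext _ _ (congrArg Additive.ofMul ((ExtGm.pts f G U).apply_symm_apply a.down.toMul))
  right_inv a := ULift.ext _ _ (congrArg Additive.ofMul ((ExtGm.pts f G U).symm_apply_apply a.down.toMul))
  map_add' a b := ULift.ext _ _ (congrArg Additive.ofMul (ExtGm.pts_symm_mul f a.down.toMul b.down.toMul))

theorem ptsBcEquiv_natural (G : Over S) [GrpObj G] [IsCommMonObj G] [IsCommMonObj (Red.bc f G)] {U V : Over T}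
    (k : V ⟶ U) (a : ULift.{u + 1} (Additive (U ⟶ Red.bc f G))) :
    ptsBcEquiv f G V (ULift.up (Additive.ofMul (k ≫ a.down.toMul))) =
      ULift.up (Additive.ofMul ((Over.map f).map k ≫ (ptsBcEquiv f G U a).down.toMul)) :=
  ULift.ext _ _ (congrArg Additive.ofMul (ExtGm.pts_symm_comp f k a.down.toMul))

/-- the restriction of the points of a smooth group is acyclic -/
theorem acy_pullBig_pts (G : Over S) [GrpObj G] [IsCommMonObj G] [Smooth G.hom] :
    EtFppfLib.Acy ((BigSite.pullBig Scheme.fppfPrecoverage f AddCommGrpCat.{u + 1}).obj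
      (CGrpSh.pts Scheme.fppfPrecoverage G) : EtFppf.AbF T) := by
  haveI : IsCommMonObj (Red.bc f G) := ExtGm.isCommMonObj_bc f
  haveI : Smooth (Red.bc f G).hom := MorphismProperty.pullback_snd _ _ inferInstance
  refine (EtFppfLib.Smo.acy_pts (Red.bc f G)).of_iso ?_
  exact (sheafToPresheaf _ _).preimageIso (NatIso.ofComponents (fun U => (ptsBcEquiv f G (unop U)).toAddCommGrpIso)
    fun {U V} k => AddCommGrpCat.hom_ext (AddMonoidHom.ext fun a => by
      have h := ptsBcEquiv_natural f G k.unop a
      exact h))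

end EtProfLib
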